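import Groth.Agent.ProjKLib.Chart
import Groth.Agent.ProjBunLib.Props
import Groth.Agent.DimIneqLib.StalkFibre
import Groth.Agent.DimFibreLib.Main
import Groth.Agent.MiscFlat6.NormalLowDim
import Groth.Agent.MiscFlat6.RelAmpleCompPowers
import Groth.Agent.GenusZeroLib.PSpace
import Groth.Agent.PicPnLib.BaseChange

/-!
# Dimension of a projective bundle
-/

set_option autoImplicit false
set_option linter.unusedSectionVars false
set_option linter.style.haveILetI false
set_option backward.isDefEq.respectTransparency false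
set_option backward.isDefEq.respectTransparency.types false

universe u

open CategoryTheory CategoryTheory.Limits AlgebraicGeometry TopologicalSpace

noncomputable section

namespace GammaDimLib

open Groth.Agent

variable {X Z : Scheme.{u}} {π : Z ⟶ X} {E : X.Modules} {O1 : Z.Modules}
  {q : (Scheme.Modules.pullback π).obj E ⟶ O1} {n : ℕ}

theorem fibre_dim_le (hP : KRR.IsProjBundle π E O1 q) (hE : FlatMod.IsFinLocFreeOfRank (n + 1) E) (y : X) :
    topologicalKrullDim (π.fiber y) ≤ (n : WithBot ℕ∞) := by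
  obtain ⟨U, hyU, hU⟩ := ProjKLib.exists_chart hP hE y
  obtain ⟨V, hV, hyV, hVU⟩ := exists_isAffineOpen_mem_and_subset (U := U) (x := y) hyU
  obtain ⟨c, hc⟩ := hU V hV hVU
  let κ := X.residueField y
  let g : Spec (CommRingCat.of κ) ⟶ Spec c.R := IsOpenImmersion.lift c.i (X.fromSpecResidueField y) (by
    rintro _ ⟨z, rfl⟩
    show X.fromSpecResidueField y z ∈ c.i.opensRange
    rw [hc, Scheme.fromSpecResidueField_apply]
    exact hyV)
  have hg : g ≫ c.i = X.fromSpecResidueField y := IsOpenImmersion.lift_fac _ _ _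
  obtain ⟨j, hj, -⟩ := PicPnLib.exists_square (n := n) (R := (κ : Type u)) g
  have hsq := hj.paste_horiz c.sq
  rw [hg] at hsq
  let e : CohB1.ProjSpace n κ ≅ π.fiber y := hsq.isoPullback
  rw [← IsHomeomorph.topologicalKrullDim_eq _ (Scheme.Hom.homeomorph e.hom).isHomeomorph]
  exact le_of_eq (GenusZeroLib.dim_projSpace κ n)

theorem dim_le (hP : KRR.IsProjBundle π E O1 q) (hE : FlatMod.IsFinLocFreeOfRank (n + 1) E)
    [IsLocallyNoetherian X] {d : ℕ} (hd : topologicalKrullDim X ≤ (d : WithBot ℕ∞)) :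
    topologicalKrullDim Z ≤ ((d + n : ℕ) : WithBot ℕ∞) := by
  haveI := ProjBunLib.isProper hP hE
  refine DimFibreLib.dim_le_of_stalks _ fun x => ?_
  refine (DimIneqLib.ringKrullDim_stalk_le_add_fibre π x).trans ?_
  rw [Nat.cast_add]
  exact add_le_add ((MiscFlat6.ringKrullDim_stalk_le X _).trans hd)
    ((MiscFlat6.ringKrullDim_stalk_le _ _).trans (fibre_dim_le hP hE _))

theorem exists_ample (hP : KRR.IsProjBundle π E O1 q) (hE : FlatMod.IsFinLocFreeOfRank (n + 1) E)
    [CompactSpace Z] [QuasiSeparatedSpace Z] {L : X.Modules} (hL : CohB1.IsAmple L) :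
    ∃ L' : Z.Modules, CohB1.IsAmple L' := by
  obtain ⟨n₀, h⟩ := MiscFlat6.exists_isAmple_tensor_pullback π (ProjBunLib.isRelAmple hP hE) hL
  exact ⟨_, h n₀ le_rfl⟩

end GammaDimLib

end
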