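import Groth.Agent.KRRRegLib.Model
import Groth.Agent.AmpleFinGenLib.Main
import Groth.Agent.VBResLib.GGen
import Groth.Agent.VBResLib.Basic
import Groth.Agent.PerfLib.Strict
import Groth.Agent.RpushLib.FlatPull
import Groth.Agent.DCohRestrLib.Glue
import Groth.Agent.CohCmpLib.LineBundle
import Groth.Agent.LambdaSpL.PosStr
import Groth.Agent.HilbPolyLib.Snapper
import Groth.Agent.IntFunLib.Main
import Mathlib.RingTheory.Polynomial.Vieta

/-!
# Products of `1 - [L]` above the dimension vanish
-/

set_option autoImplicit false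
set_option linter.unusedSectionVars false
set_option linter.style.haveILetI false
set_option maxHeartbeats 800000
set_option backward.isDefEq.respectTransparency false
set_option backward.isDefEq.respectTransparency.types false

universe v u

open CategoryTheory CategoryTheory.Limits AlgebraicGeometry TopologicalSpace Finset
open DevissLib (St)
open LambdaRing (LambdaOps PosStructure)

noncomputable section

namespace GammaDimLib

open Groth.Agent

variable {X : Scheme.{u}}

/-- A module with a section. -/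
abbrev Sec (X : Scheme.{u}) := Σ M : X.Modules, (Coh.structureModule X ⟶ M)

/-- The points where no section of the family generates. -/
def badSet (l : List (Sec X)) : Set X := {x | ∀ p ∈ l, x ∉ CohB1.genLocus p.1 p.2}

theorem isClosed_badSet (l : List (Sec X)) : IsClosed (badSet l) := by
  induction l with
  | nil => simp [badSet]
  | cons p l ih =>
    have h : badSet (p :: l) = (CohB1.genLocus p.1 p.2 : Set X)ᶜ ∩ badSet l := by
      ext x
      simp [badSet]
    rw [h]
    exact (CohB1.genLocus p.1 p.2).2.isClosed_compl.inter ih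

theorem isIso_St {L : X.Modules} (φ : Coh.structureModule X ⟶ L) {x : X}
    (hx : x ∈ CohB1.genLocus L φ) : IsIso ((St x).map φ) := by
  obtain ⟨U, hU, hxU⟩ : ∃ U : X.Opens, IsIso ((Scheme.Modules.restrictFunctor U.ι).map φ) ∧ x ∈ U := by
    obtain ⟨U, hU, hxU⟩ := Opens.mem_sSup.mp hx
    exact ⟨U, hU, hxU⟩
  haveI : IsIso ((Scheme.Modules.restrictFunctor U.ι).map φ) := hU
  exact Groth.Agent.DCohRestrLib.isIso_stalk_of_restrict U.ι φ ⟨x, hxU⟩

section Alg

variable {K : Type v} [CommRing K] [LambdaOps K] {P : PosStructure K}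

theorem prod_one_sub (s : Multiset K) :
    (s.map fun u => 1 - u).prod = ∑ j ∈ range (Multiset.card s + 1), (-1 : K) ^ j * s.esymm j := by
  have h := congrArg (Polynomial.eval 1) (Multiset.prod_X_sub_X_eq_sum_esymm s)
  simpa [Polynomial.eval_multiset_prod, Multiset.map_map, Function.comp_def, Polynomial.eval_finsetSum] using h

theorem sum_lam_add_one (P : PosStructure K) (q : K) : ∀ n : ℕ,
    ∑ j ∈ range (n + 1), (-1 : K) ^ j * LambdaOps.lam j (q + 1) = (-1 : K) ^ n * LambdaOps.lam n q
  | 0 => by simp [LambdaOps.lam_zero]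
  | n + 1 => by
    rw [sum_range_succ, sum_lam_add_one P q n,
      LambdaSpLib.lam_add_one (LambdaSpLib.lam_one_arg P) n q]
    ring

end Alg

variable {K : Type v} [CommRing K] [LambdaOps K] {P : PosStructure K} {φ : SGA6.Kvb X →+ K}

/-- Bundle with section of a family. -/
theorem exists_sum [IsNoetherian X] (hK : KRR.IsModel X K P φ) :
    ∀ l : List (Sec X), (∀ p ∈ l, PicF.IsInvertible p.1) →
      ∃ (E : X.Modules) (v : Coh.structureModule X ⟶ E), FlatMod.IsFinLocFree E ∧
        φ (KRR.cl X E) = (l.map fun p => φ (KRR.cl X p.1)).sum ∧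
        ∀ x, x ∉ badSet l → IsSplitMono ((St x).map v) := by
  intro l
  induction l with
  | nil =>
    intro _
    obtain ⟨Z, hZ⟩ := HasZeroObject.zero (C := X.Modules)
    exact ⟨Z, 0, VBResLib.vb_of_isZero hZ, by
      rw [show KRR.cl X Z = 0 from KHeartLib.clSub_eq_zero (KRR.vbP X) (VBResLib.vb_of_isZero hZ) hZ]; simp,
      fun x hx => absurd (fun p hp => absurd hp List.not_mem_nil) hx⟩
  | cons p l ih =>
    intro hl
    obtain ⟨E, v, hE, hcl, hsp⟩ := ih fun q hq => hl q (List.mem_cons_of_mem _ hq)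
    have hM : FlatMod.IsFinLocFree p.1 :=
      AmpleDevLib.isFinLocFree_of_isInvertible (hl p List.mem_cons_self)
    have hME := Groth.Agent.PerfLib.isFinLocFree_biprod hM hE
    refine ⟨p.1 ⊞ E, biprod.lift p.2 v, hME, ?_, fun x hx => ?_⟩
    · rw [List.map_cons, List.sum_cons, ← hcl,
        show KRR.cl X (p.1 ⊞ E) = KRR.cl X p.1 + KRR.cl X E from
          KHeartLib.clSub_add (KRR.vbP X) _ (K0ResLib.biprodSeq_shortExact p.1 E) hM hME hE, map_add]
    · by_cases hxp : x ∈ CohB1.genLocus p.1 p.2
      · haveI := isIso_St p.2 hxp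
        refine ⟨⟨⟨(St x).map biprod.fst ≫ inv ((St x).map p.2), ?_⟩⟩⟩
        rw [← Category.assoc, ← Functor.map_comp, biprod.lift_fst, IsIso.hom_inv_id]
      · have hxl : x ∉ badSet l := fun h => hx fun q hq => by
          rcases List.mem_cons.1 hq with rfl | hq
          · exact hxp
          · exact h q hq
        haveI := hsp x hxl
        refine ⟨⟨⟨(St x).map biprod.snd ≫ retraction ((St x).map v), ?_⟩⟩⟩
        rw [← Category.assoc, ← Functor.map_comp, biprod.lift_snd, IsSplitMono.id]

/-- A family of sections without common zero: `∏ (1 - [M]) = 0`. -/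
theorem prod_eq_zero_of_generated [IsNoetherian X] [ConnectedSpace X] (hK : KRR.IsModel X K P φ)
    (l : List (Sec X)) (hl : ∀ p ∈ l, PicF.IsInvertible p.1) (hgen : badSet l = ∅) :
    (l.map fun p => 1 - φ (KRR.cl X p.1)).prod = 0 := by
  obtain ⟨E, v, hE, hcl, hsp⟩ := exists_sum hK l hl
  have hsp' : ∀ x, IsSplitMono ((St x).map v) := fun x => hsp x (by simp [hgen])
  haveI : Mono v := RpushLib.mono_of_stalks v fun x => by haveI := hsp' x; infer_instance
  let S := ShortComplex.mk v (cokernel.π v) (cokernel.condition v)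
  have hS : S.ShortExact := ShortComplex.ShortExact.mk (ShortComplex.exact_cokernel v)
  have hO : FlatMod.IsFinLocFree (Coh.structureModule X) := KRRRegLib.vb_structure X
  haveI : Coh.IsQCoh E := FinLFAnn.isQCoh_of_isFinLocFree hE
  haveI : Coh.IsQCoh (Coh.structureModule X) := FinLFAnn.isQCoh_of_isFinLocFree hO
  have hQc : Coh.IsCoh (cokernel v) :=
    QCohLib.isCoh_cokernel v inferInstance (VBResLib.isCoh_of_vb hE)
  have hQ : FlatMod.IsFinLocFree (cokernel v) := VBResLib.vb_of_pd_zero hQc fun x => by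
    haveI := hsp' x
    have hSx := VBResLib.shortExact_stalk hS x
    haveI : IsSplitMono (S.map (St x)).f := hsp' x
    have sp := ShortComplex.Splitting.ofExactOfRetraction (S.map (St x)) hSx.exact
      (retraction ((St x).map v)) (IsSplitMono.id _) hSx.epi_g
    haveI : HasProjectiveDimensionLT (S.map (St x)).X₂ (0 + 1) := VBResLib.pdAt_of_vb hE x 0
    exact Retract.hasProjectiveDimensionLT ⟨sp.s, (S.map (St x)).g, sp.s_g⟩ (0 + 1)
  obtain ⟨n, hn⟩ := VBResLib.exists_rank hQ
  set q := φ (KRR.cl X (cokernel v)) with hq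
  have he : (l.map fun p => φ (KRR.cl X p.1)).sum = q + 1 := by
    rw [← hcl, show KRR.cl X E = KRR.cl X (Coh.structureModule X) + KRR.cl X (cokernel v) from
      KHeartLib.clSub_add (KRR.vbP X) S hS hO hE hQ, map_add, hK.map_one, add_comm]
  set s : Multiset K := ((l.map fun p => φ (KRR.cl X p.1) : List K) : Multiset K) with hs
  have hline : ∀ u ∈ s, P.IsLine u := fun u hu => by
    rw [hs, Multiset.mem_coe] at hu
    obtain ⟨p, hp, rfl⟩ := List.mem_map.1 hu
    exact KRRRegLib.isLine_cl hK (((CohCmpLib.invertible_iff_rank_one _).1 (hl p hp)))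
  have hsum : s.sum = q + 1 := by rw [hs, Multiset.sum_coe, he]
  have hcard : Multiset.card s = n + 1 := by
    have h := congrArg P.aug hsum
    rw [LambdaSpLib.aug_sum_lines hline, map_add, map_one, hq, hK.aug_cl n _ hn] at h
    exact_mod_cast h
  have hlam : LambdaOps.lam (n + 1) q = 0 := by
    rcases Nat.eq_zero_or_pos n with h0 | h0
    · subst h0
      have : KRR.cl X (cokernel v) = 0 :=
        KHeartLib.clSub_eq_zero (KRR.vbP X) hQ (ProjBunLib.isZero_of_rank_zero hn)
      rw [hq, this, map_zero, LambdaSpLib.lam_zero_arg _ le_rfl]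
    · refine P.lam_eq_zero q ((hK.mem_pos_iff q).2 ⟨n, _, h0, hn, rfl⟩) _ ?_
      rw [hq, hK.aug_cl n _ hn]
      exact_mod_cast Nat.lt_succ_self n
  have : (l.map fun p => 1 - φ (KRR.cl X p.1)).prod = (s.map fun u => 1 - u).prod := by
    rw [hs, Multiset.map_coe, Multiset.prod_coe, List.map_map]; rfl
  rw [this, prod_one_sub, hcard]
  rw [sum_congr rfl fun j _ => by
      rw [← LambdaSpLib.lam_sum_lines (fun u hu => LambdaSpLib.line_lam (hline u hu)) j, hsum],
    sum_lam_add_one P q (n + 1), hlam, mul_zero]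

/-- Induction on the dimension of the common zeros. -/
theorem prod_mul_prod_eq_zero [IsNoetherian X] [ConnectedSpace X] (hK : KRR.IsModel X K P φ)
    {L : X.Modules} (hA : CohB1.IsAmple L) : ∀ (j : ℕ) (l : List (Sec X)), (∀ p ∈ l, PicF.IsInvertible p.1) →
      topologicalKrullDim (badSet l) < (j : ℕ) → ∀ ls : List X.Modules, ls.length = j →
      (∀ A ∈ ls, PicF.IsInvertible A) →
      (l.map fun p => 1 - φ (KRR.cl X p.1)).prod * (ls.map fun A => 1 - φ (KRR.cl X A)).prod = 0
  | 0, l, hl, hdim, ls, _, _ => by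
    rw [prod_eq_zero_of_generated hK l hl ?_, zero_mul]
    by_contra hne
    obtain ⟨x, hx⟩ := Set.nonempty_iff_ne_empty.2 hne
    haveI : Nonempty (IrreducibleCloseds (badSet l)) :=
      ⟨⟨closure {(⟨x, hx⟩ : badSet l)}, isIrreducible_singleton.closure, isClosed_closure⟩⟩
    exact absurd (Order.krullDim_nonneg.trans_lt hdim) (by simp)
  | j + 1, l, hl, hdim, ls, hlen, hls => by
    obtain ⟨A, ls, rfl⟩ := List.exists_cons_of_length_eq_add_one hlen
    have hZ := isClosed_badSet l
    obtain ⟨S, hSf, hSc, hSi, hSU⟩ := NoetherianSpace.exists_finite_set_isClosed_irreducible hZ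
    choose η hη using fun C : S => QuasiSober.sober (hSi C.1 C.2) (hSc C.1 C.2)
    haveI : Finite S := hSf.to_subtype
    have hT : (Set.range η).Finite := Set.finite_range η
    have hAi : PicF.IsInvertible A := hls A List.mem_cons_self
    have hOi : PicF.IsInvertible (Coh.structureModule X) := MiscFlat6.isInvertible_structureModule X
    obtain ⟨N₁, hN₁⟩ := AmpleFinGenLib.exists_section_twist hA hAi hT
    obtain ⟨N₂, hN₂⟩ := AmpleFinGenLib.exists_section_twist hA hOi hT
    let N := max N₁ N₂
    obtain ⟨s, hs⟩ := hN₁ N (le_max_left _ _)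
    obtain ⟨t, ht⟩ := hN₂ N (le_max_right _ _)
    have step : ∀ p : Sec X, PicF.IsInvertible p.1 → Set.range η ⊆ (CohB1.genLocus p.1 p.2 : Set X) →
        (1 - φ (KRR.cl X p.1)) * ((l.map fun p => 1 - φ (KRR.cl X p.1)).prod *
          (ls.map fun A => 1 - φ (KRR.cl X A)).prod) = 0 := by
      intro p hp hgen
      rw [← mul_assoc]
      have hsub : badSet (p :: l) ⊆ badSet l := fun x hx q hq => hx q (List.mem_cons_of_mem _ hq)
      have hd' : topologicalKrullDim (badSet (p :: l)) < (j : ℕ) := by
        refine IntFunLib.dim_lt_of_points (isClosed_badSet _) fun y hy => ?_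
        have hyl : y ∈ ⋃₀ S := hSU ▸ hsub hy
        obtain ⟨C, hC, hyC⟩ := hyl
        have hCη : closure {η ⟨C, hC⟩} = C := (hη ⟨C, hC⟩).def
        refine HilbPolyLib.dim_lt_of_notMem (η := η ⟨C, hC⟩) isClosed_closure ?_ ?_ ?_ hdim
        · exact closure_minimal (Set.singleton_subset_iff.2 (hCη.symm ▸ hyC)) isClosed_closure
        · intro h
          exact closure_minimal (Set.singleton_subset_iff.2 hy) (isClosed_badSet _) h p List.mem_cons_self
            (hgen ⟨⟨C, hC⟩, rfl⟩)
        · rw [hCη, hSU]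
          exact Set.subset_sUnion_of_mem hC
      have h := prod_mul_prod_eq_zero hK hA j (p :: l)
        (fun q hq => (List.mem_cons.1 hq).elim (fun e => e ▸ hp) (hl q)) hd' ls
        (by simpa using hlen) fun B hB => hls B (List.mem_cons_of_mem _ hB)
      rwa [List.map_cons, List.prod_cons] at h
    obtain ⟨hUv, hUcl⟩ := KRRRegLib.cl_tensorPow hK hA.1 N
    have hcl : ∀ B : X.Modules, FlatMod.IsFinLocFree B →
        φ (KRR.cl X (CohB1.tensorMod B (CohB1.tensorPow L N))) = φ (KRR.cl X B) * φ (KRR.cl X L) ^ N :=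
      fun B hB => by rw [hUcl]; exact (hK.map_mul B _ hB hUv).symm
    have hUi : PicF.IsInvertible (CohB1.tensorPow L N) := AmpleThLib.tensorPow_isInvertible hA.1 N
    have h1 := step ⟨_, s⟩ (MiscFlat6.tensorMod_isInvertible hAi hUi) hs
    have h2 := step ⟨_, t⟩ (MiscFlat6.tensorMod_isInvertible hOi hUi) ht
    rw [hcl A (AmpleDevLib.isFinLocFree_of_isInvertible hAi)] at h1
    rw [hcl _ (KRRRegLib.vb_structure X), hK.map_one, one_mul] at h2
    rw [List.map_cons, List.prod_cons]
    linear_combination h1 - φ (KRR.cl X A) * h2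

/-- The ideal of the elements `1 - [L]`. -/
def lineIdeal (X : Scheme.{u}) {K : Type v} [CommRing K] (φ : SGA6.Kvb X →+ K) : Ideal K :=
  Ideal.span {x | ∃ A : X.Modules, PicF.IsInvertible A ∧ x = 1 - φ (KRR.cl X A)}

/-- The ideal of the `1 - [L]` is nilpotent of order `dim X + 1`. -/
theorem lineIdeal_pow [IsNoetherian X] [ConnectedSpace X] (hK : KRR.IsModel X K P φ)
    {L : X.Modules} (hA : CohB1.IsAmple L) {d : ℕ} (hd : topologicalKrullDim X ≤ (d : WithBot ℕ∞)) :
    lineIdeal X φ ^ (d + 1) = ⊥ := by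
  rw [lineIdeal, Ideal.span, Submodule.span_pow, Submodule.span_eq_bot]
  intro x hx
  obtain ⟨f, rfl⟩ := Set.mem_pow.1 hx
  choose A hAi hA' using fun i => (f i).2
  have h := prod_mul_prod_eq_zero hK hA (d + 1) [] (fun p hp => absurd hp List.not_mem_nil) ?_
    (List.ofFn A) (by simp) fun B hB => by
      obtain ⟨i, rfl⟩ := (List.mem_ofFn' A B).1 hB
      exact hAi i
  · rw [List.map_nil, List.prod_nil, one_mul, List.map_ofFn] at h
    rw [show (List.ofFn fun i => ((f i : _) : K)) = List.ofFn ((fun B => 1 - φ (KRR.cl X B)) ∘ A) from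
      congrArg List.ofFn (funext fun i => hA' i)]
    exact h
  · have hb : badSet ([] : List (Sec X)) = Set.univ := Set.eq_univ_of_forall fun x p hp => absurd hp List.not_mem_nil
    rw [hb, IsHomeomorph.topologicalKrullDim_eq _ (Homeomorph.Set.univ X).isHomeomorph]
    exact hd.trans_lt (by exact_mod_cast Nat.lt_succ_self d)

end GammaDimLib

end
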