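import Groth.Agent.GammaDimLib.Lines
import Groth.Agent.GammaDimLib.BundleDim
import Groth.Agent.ProjKLib.Split
import Groth.Agent.LambdaSpL.Pre

/-!
# A tower of projective bundles with bounded dimension
-/

set_option autoImplicit false
set_option linter.unusedSectionVars false
set_option linter.style.haveILetI false
set_option backward.isDefEq.respectTransparency false
set_option backward.isDefEq.respectTransparency.types false
set_option maxHeartbeats 1000000

universe v w u

open CategoryTheory CategoryTheory.Limits AlgebraicGeometry TopologicalSpace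
open KFlatLib (pb)
open LambdaRing (LambdaOps PosStructure)

noncomputable section

namespace GammaDimLib

open Groth.Agent

/-- A line element congruent to `1` modulo `J`. -/
def IsJLine {K : Type v} [CommRing K] [LambdaOps K] (P : PosStructure K) (J : Ideal K) (a : K) : Prop :=
  P.IsLine a ∧ a - 1 ∈ J

theorem isJLine_cl {X : Scheme.{u}} {K : Type v} [CommRing K] [LambdaOps K] {P : PosStructure K}
    {φ : SGA6.Kvb X →+ K} (hK : KRR.IsModel X K P φ) {M : X.Modules} (hM : FlatMod.IsFinLocFreeOfRank 1 M) :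
    IsJLine P (lineIdeal X φ) (φ (KRR.cl X M)) := by
  refine ⟨KRRRegLib.isLine_cl hK hM, ?_⟩
  rw [← neg_sub]
  exact neg_mem (Ideal.subset_span ⟨M, (CohCmpLib.invertible_iff_rank_one M).2 hM, rfl⟩)

/-- A splitting of finitely many bundles with a multiplier keeping the elements of `K`. -/
theorem exists_tower : ∀ (k : ℕ) (X : Scheme.{u}) [IsNoetherian X] [ConnectedSpace X] (L : X.Modules),
    CohB1.IsAmple L → ∀ d : ℕ, topologicalKrullDim X ≤ (d : WithBot ℕ∞) →
    ∀ (K : Type (u + 1)) [CommRing K] [LambdaOps K] (P : PosStructure K) (φ : SGA6.Kvb X →+ K),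
    KRR.IsModel X K P φ → ∀ l : List (ℕ × X.Modules), (∀ p ∈ l, FlatMod.IsFinLocFreeOfRank p.1 p.2) →
    (l.map fun p => p.1 + 1).sum = k →
    ∃ (K' : Type (u + 1)) (_ : CommRing K') (_ : LambdaOps K') (P' : PosStructure K') (g : K →+* K')
      (J : Ideal K') (N : ℕ) (t : K'),
      (∀ i y, g (LambdaOps.lam i y) = LambdaOps.lam i (g y)) ∧ (∀ y, P'.aug (g y) = P.aug y) ∧
      J ^ (d + 1 + N) = ⊥ ∧ t ∈ J ^ N ∧ (∀ y, g y * t = 0 → y = 0) ∧
      (∀ M : X.Modules, FlatMod.IsFinLocFreeOfRank 1 M → IsJLine P' J (g (φ (KRR.cl X M)))) ∧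
      ∀ p ∈ l, ∃ s : Multiset K', (∀ a ∈ s, IsJLine P' J a) ∧ g (φ (KRR.cl X p.2)) = s.sum := by
  intro k
  induction k with
  | zero =>
    intro X _ _ L hL d hd K _ _ P φ hK l hl hk
    have hnil : l = [] := by
      cases l with
      | nil => rfl
      | cons p l => simp at hk
    subst hnil
    exact ⟨K, inferInstance, inferInstance, P, RingHom.id K, lineIdeal X φ, 0, 1, fun _ _ => rfl, fun _ => rfl,
      by simpa using lineIdeal_pow hK hL hd, by simp, fun y hy => by simpa using hy,
      fun M hM => isJLine_cl hK hM, fun p hp => absurd hp List.not_mem_nil⟩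
  | succ k ih =>
    intro X _ _ L hL d hd K _ _ P φ hK l hl hk
    rcases l with _ | ⟨⟨m, E⟩, l⟩
    · simp at hk
    have hE : FlatMod.IsFinLocFreeOfRank m E := hl _ List.mem_cons_self
    rcases m with _ | n
    · obtain ⟨K', _, _, P', g, J, N, t, hgl, hga, hJ, ht, hinj, hlines, hsplit⟩ :=
        ih X L hL d hd K P φ hK l (fun p hp => hl p (List.mem_cons_of_mem _ hp))
          (by simp only [List.map_cons, List.sum_cons] at hk; omega)
      refine ⟨K', inferInstance, inferInstance, P', g, J, N, t, hgl, hga, hJ, ht, hinj, hlines, fun p hp => ?_⟩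
      rcases List.mem_cons.1 hp with rfl | hp
      · refine ⟨0, fun a ha => absurd ha (Multiset.notMem_zero a), ?_⟩
        rw [show KRR.cl X E = 0 from KHeartLib.clSub_eq_zero (KRR.vbP X) (SeesawLib.isFinLocFree_of_rank hE)
          (ProjBunLib.isZero_of_rank_zero hE), map_zero, map_zero, Multiset.sum_zero]
      · exact hsplit p hp
    · obtain ⟨Z, π, O1, q, hZ⟩ := ProjBunLib.exists_isProjBundle hE
      haveI := ProjKLib.isNoetherian hZ hE
      haveI := ProjKLib.connectedSpace hZ hE
      obtain ⟨L', hL'⟩ := exists_ample hZ hE hL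
      obtain ⟨KZ, _, _, PZ, φZ, hKZ⟩ := Groth.Agent.S3796.result Z
      obtain ⟨g₁, hg₁, hl₁, ha₁⟩ := KRRRegLib.exists_pullHom π hKZ hK
      haveI := hZ.epi
      have hS : (ShortComplex.mk (kernel.ι q) q (kernel.condition q)).ShortExact :=
        ShortComplex.ShortExact.mk (ShortComplex.exact_kernel q)
      have hEP : FlatMod.IsFinLocFreeOfRank (n + 1) (pb π E) := SeesawLib.isFinLocFreeOfRank_pullback π hE
      have hK' : FlatMod.IsFinLocFreeOfRank n (kernel q) := ProjBunLib.rank_of_shortExact hS hEP hZ.invertible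
      obtain ⟨K', _, _, P', g₂, J, N, t, hgl, hga, hJ, ht, hinj, hlines, hsplit⟩ :=
        ih Z L' hL' (d + n) (dim_le hZ hE hd) KZ PZ φZ hKZ
          ((n, kernel q) :: l.map fun p => (p.1, pb π p.2))
          (fun p hp => by
            rcases List.mem_cons.1 hp with rfl | hp
            · exact hK'
            · obtain ⟨p', hp', rfl⟩ := List.mem_map.1 hp
              exact SeesawLib.isFinLocFreeOfRank_pullback π (hl p' (List.mem_cons_of_mem _ hp')))
          (by simp only [List.map_cons, List.map_map, List.sum_cons, Function.comp_def] at hk ⊢; omega)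
      let o := φZ (KRR.cl Z O1)
      have hpull : ∀ M : X.Modules, FlatMod.IsFinLocFree M →
          g₁ (φ (KRR.cl X M)) = φZ (KRR.cl Z (pb π M)) := hg₁
      refine ⟨K', inferInstance, inferInstance, P', g₂.comp g₁, J, n + N, g₂ ((o - 1) ^ n) * t,
        fun i y => ?_, fun y => ?_, ?_, ?_, fun y hy => ?_, fun M hM => ?_, fun p hp => ?_⟩
      · simp only [RingHom.comp_apply, hl₁, hgl]
      · simp only [RingHom.comp_apply, hga, ha₁]
      · rw [show d + 1 + (n + N) = d + n + 1 + N by omega]; exact hJ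
      · rw [pow_add, map_pow, map_sub, map_one]
        exact Ideal.mul_mem_mul (Ideal.pow_mem_pow (hlines O1 hZ.invertible).2 n) ht
      · rw [RingHom.comp_apply, ← mul_assoc, ← map_mul] at hy
        have h0 : g₁ y * (o - 1) ^ n = 0 := hinj _ hy
        let a : Fin (n + 1) → K := fun i => y * ((-1) ^ ((i : ℕ) + n) * (n.choose i : K))
        have ha : ∑ i : Fin (n + 1), g₁ (a i) * o ^ (i : ℕ) = 0 := by
          rw [← h0, sub_pow, Finset.mul_sum, ← Fin.sum_univ_eq_sum_range (fun i =>
            g₁ y * ((-1) ^ (i + n) * o ^ i * 1 ^ (n - i) * (n.choose i : KZ)))]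
          refine Finset.sum_congr rfl fun i _ => ?_
          simp only [a, map_mul, map_pow, map_neg, map_one, map_natCast, one_pow]
          ring
        have h := (ProjKLib.bijective_model hE hZ hK hKZ g₁.toAddMonoidHom hg₁).1 (a₁ := a) (a₂ := 0)
          (by simpa [o] using ha)
        have h2 := congrFun h (Fin.last n)
        simpa [a, ← pow_add, ← two_mul, pow_mul] using h2
      · rw [RingHom.comp_apply, hpull M (SeesawLib.isFinLocFree_of_rank hM)]
        exact hlines _ (SeesawLib.isFinLocFreeOfRank_pullback π hM)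
      · rcases List.mem_cons.1 hp with rfl | hp
        · obtain ⟨s, hs, hsum⟩ := hsplit (n, kernel q) List.mem_cons_self
          refine ⟨g₂ o ::ₘ s, fun a ha => ?_, ?_⟩
          · rcases Multiset.mem_cons.1 ha with rfl | ha
            · exact hlines O1 hZ.invertible
            · exact hs a ha
          · rw [RingHom.comp_apply, hpull E (SeesawLib.isFinLocFree_of_rank hE), Multiset.sum_cons, ← hsum,
              show KRR.cl Z (pb π E) = KRR.cl Z (kernel q) + KRR.cl Z O1 from
                KHeartLib.clSub_add (KRR.vbP Z) _ hS (SeesawLib.isFinLocFree_of_rank hK')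
                  (SeesawLib.isFinLocFree_of_rank hEP) (SeesawLib.isFinLocFree_of_rank hZ.invertible),
              map_add, map_add, add_comm]
        · obtain ⟨s, hs, hsum⟩ := hsplit (p.1, pb π p.2)
            (List.mem_cons_of_mem _ (List.mem_map.2 ⟨p, hp, rfl⟩))
          refine ⟨s, hs, ?_⟩
          rw [RingHom.comp_apply, hpull _ (SeesawLib.isFinLocFree_of_rank (hl p (List.mem_cons_of_mem _ hp)))]
          exact hsum

section Gamma

variable {K : Type v} [CommRing K] [LambdaOps K] {P : PosStructure K} {J : Ideal K}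

theorem esymm_mem {s : Multiset K} (hs : ∀ a ∈ s, a ∈ J) (r : ℕ) : s.esymm r ∈ J ^ r := by
  rw [Multiset.esymm]
  refine multiset_sum_mem _ fun b hb => ?_
  obtain ⟨t, ht, rfl⟩ := Multiset.mem_map.1 hb
  obtain ⟨hts, rfl⟩ := Multiset.mem_powersetCard.1 ht
  clear hb ht
  induction t using Multiset.induction_on with
  | empty => simp
  | cons a t iht =>
    rw [Multiset.prod_cons, Multiset.card_cons, pow_succ']
    exact Ideal.mul_mem_mul (hs a (Multiset.mem_of_le hts (Multiset.mem_cons_self a t)))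
      (iht ((Multiset.le_cons_self t a).trans hts))

theorem gamma_lines_mem {s : Multiset K} (hs : ∀ a ∈ s, IsJLine P J a) (r : ℕ) :
    LambdaRing.gamma r (s.sum - (P.aug s.sum : K)) ∈ J ^ r := by
  rw [LambdaSpLib.aug_sum_lines (fun a ha => (hs a ha).1), Int.cast_natCast,
    LambdaSpLib.gamma_sum_lines (LambdaSpLib.lam_one_arg P) (fun a ha => LambdaSpLib.line_lam (hs a ha).1) r]
  refine esymm_mem (fun a ha => ?_) r
  obtain ⟨b, hb, rfl⟩ := Multiset.mem_map.1 ha
  exact (hs b hb).2

theorem gamma_neg_mem {x : K} (hx : ∀ r, LambdaRing.gamma r x ∈ J ^ r) :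
    ∀ r, LambdaRing.gamma r (-x) ∈ J ^ r := by
  intro r
  induction r using Nat.strong_induction_on with
  | h r ih =>
    rcases r with _ | r
    · simp
    · rw [LambdaSpLib.gamma_neg]
      refine neg_mem (Ideal.sum_mem _ fun i hi => ?_)
      have hi' := Finset.mem_range.1 hi
      rw [show r + 1 = (i + 1) + (r - i) by omega, pow_add]
      exact Ideal.mul_mem_mul (hx _) (ih _ (by omega))

theorem gamma_sub_mem {x y : K} (hx : ∀ r, LambdaRing.gamma r x ∈ J ^ r)
    (hy : ∀ r, LambdaRing.gamma r y ∈ J ^ r) (r : ℕ) : LambdaRing.gamma r (x - y) ∈ J ^ r := by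
  rw [sub_eq_add_neg, LambdaSpLib.gamma_add]
  refine Ideal.sum_mem _ fun i hi => ?_
  have hi' := Finset.mem_range.1 hi
  rw [show r = i + (r - i) by omega, pow_add, Nat.add_sub_cancel_left]
  exact Ideal.mul_mem_mul (hx _) (gamma_neg_mem hy _)

end Gamma

/-- `F^{d+1} = 0` on a model in the standard universe. -/
theorem gf_eq_bot (X : Scheme.{u}) [IsNoetherian X] [ConnectedSpace X] (L : X.Modules) (hL : CohB1.IsAmple L)
    (d : ℕ) (hd : topologicalKrullDim X ≤ (d : WithBot ℕ∞)) (K : Type (u + 1)) [CommRing K] [LambdaOps K]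
    (P : PosStructure K) (φ : SGA6.Kvb X →+ K) (hK : KRR.IsModel X K P φ) {x : K}
    (hx : x ∈ LambdaRing.gammaFiltration P (d + 1)) : x = 0 := by
  refine LambdaSpLib.gf_induction P (Nat.succ_ne_zero d) (p := fun y => y = 0) (fun l hl hs => ?_) rfl
    (fun a b ha hb => by rw [ha, hb, add_zero]) (fun a ha => by rw [ha, neg_zero]) hx
  choose e f he hf hef using fun p : ℕ × K => P.exists_sub p.2
  choose ne Ee hne hEe hce using fun p => (hK.mem_pos_iff _).1 (he p)
  choose nf Ef hnf hEf hcf using fun p => (hK.mem_pos_iff _).1 (hf p)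
  let bs : List (ℕ × X.Modules) := l.map (fun p => (ne p, Ee p)) ++ l.map fun p => (nf p, Ef p)
  obtain ⟨K', _, _, P', g, J, N, t, hgl, hga, hJ, ht, hinj, -, hsplit⟩ :=
    exists_tower _ X L hL d hd K P φ hK bs (fun p hp => by
      rcases List.mem_append.1 hp with h | h <;> obtain ⟨p', -, rfl⟩ := List.mem_map.1 h
      · exact hEe p'
      · exact hEf p') rfl
  have hg : ∀ (r : ℕ) (y : K), g (LambdaRing.gamma r y) = LambdaRing.gamma r (g y) := fun r y => by
    simp only [LambdaRing.gamma]
    split_ifs with h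
    · exact map_one g
    · rw [map_sum]
      refine Finset.sum_congr rfl fun j _ => ?_
      split_ifs with hj
      · simp
      · rw [map_mul, map_natCast, hgl]
  have hmem : ∀ p ∈ l, g (LambdaRing.gamma p.1 p.2) ∈ J ^ p.1 := fun p hp => by
    obtain ⟨s, hs, hse⟩ := hsplit _ (List.mem_append_left _ (List.mem_map.2 ⟨p, hp, rfl⟩))
    obtain ⟨s', hs', hsf⟩ := hsplit _ (List.mem_append_right _ (List.mem_map.2 ⟨p, hp, rfl⟩))
    rw [hce] at hse
    rw [hcf] at hsf
    have hval : g p.2 = (s.sum - (P'.aug s.sum : K')) - (s'.sum - (P'.aug s'.sum : K')) := by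
      have h0 : P'.aug s.sum - P'.aug s'.sum = 0 := by
        rw [← hse, ← hsf, hga, hga, ← map_sub, ← hef]; exact hl p hp
      rw [sub_eq_zero.1 h0, hef p, map_sub, hse, hsf]
      ring
    rw [hg, hval]
    exact gamma_sub_mem (fun r => gamma_lines_mem hs r) (fun r => gamma_lines_mem hs' r) _
  refine hinj _ ?_
  have hprod : ∀ m : List (ℕ × K), (∀ p ∈ m, g (LambdaRing.gamma p.1 p.2) ∈ J ^ p.1) →
      g (m.map fun p => LambdaRing.gamma p.1 p.2).prod ∈ J ^ (m.map Prod.fst).sum := by
    intro m hm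
    induction m with
    | nil => simp
    | cons p m ih =>
      simp only [List.map_cons, List.prod_cons, List.sum_cons, map_mul, pow_add]
      exact Ideal.mul_mem_mul (hm p List.mem_cons_self) (ih fun q hq => hm q (List.mem_cons_of_mem _ hq))
  have h := Ideal.mul_mem_mul (hprod l hmem) ht
  rw [← pow_add] at h
  have h' := Ideal.pow_le_pow_right (I := J) (by omega : d + 1 + N ≤ (l.map Prod.fst).sum + N) h
  rwa [hJ, Ideal.mem_bot] at h'

/-- `F^{d+1} K(X) = 0`. -/
theorem gammaFiltration_eq_bot (X : Scheme.{u}) [IsNoetherian X] [ConnectedSpace X] (L : X.Modules)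
    (hL : CohB1.IsAmple L) (d : ℕ) (hd : topologicalKrullDim X ≤ (d : WithBot ℕ∞))
    (K : Type v) [CommRing K] [LambdaOps K] (P : PosStructure K) (φ : SGA6.Kvb X →+ K)
    (hK : KRR.IsModel X K P φ) : LambdaRing.gammaFiltration P (d + 1) = ⊥ := by
  obtain ⟨K₀, _, _, P₀, φ₀, hK₀⟩ := Groth.Agent.S3796.result X
  obtain ⟨a, ha, hal, haa⟩ := KRRRegLib.exists_pullHom (𝟙 X) hK₀ hK
  obtain ⟨b, hb, hbl, hba⟩ := KRRRegLib.exists_pullHom (𝟙 X) hK hK₀
  have hid : ∀ M : X.Modules, KRR.cl X (pb (𝟙 X) M) = KRR.cl X M := fun M =>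
    KHeartLib.clSub_congr (KRR.vbP X) ((Scheme.Modules.pullbackId X).app M)
  have hba' : ∀ y, b (a y) = y := fun y => by
    refine KRRRegLib.model_induction hK (motive := fun y => b (a y) = y) (fun M hM => ?_) (by simp)
      (fun c d hc hd => by rw [map_add, map_add, hc, hd]) (fun c hc => by rw [map_neg, map_neg, hc]) y
    rw [show a (φ (KRR.cl X M)) = φ₀ (KRR.cl X (pb (𝟙 X) M)) from ha M hM, hid,
      show b (φ₀ (KRR.cl X M)) = φ (KRR.cl X (pb (𝟙 X) M)) from hb M hM, hid]
  rw [eq_bot_iff]
  intro x hx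
  have h := gf_eq_bot X L hL d hd K₀ P₀ φ₀ hK₀ (ProjKLib.map_gf (Q := P₀) a hal haa hx)
  rw [AddSubgroup.mem_bot, ← hba' x, h, map_zero]

end GammaDimLib

end
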